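import Groth.Agent.EtGabber.IntegralCover
import Mathlib.AlgebraicGeometry.ResidueField
import Mathlib.FieldTheory.IsAlgClosed.AlgebraicClosure

/-!
# Covers with algebraically closed residue fields
-/

set_option autoImplicit false
set_option linter.all false
set_option backward.isDefEq.respectTransparency.types false
set_option backward.isDefEq.respectTransparency false
set_option maxHeartbeats 1000000
set_option synthInstance.maxHeartbeats 400000

universe u

open CategoryTheory CategoryTheory.Limits AlgebraicGeometry Opposite Polynomial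

namespace Groth.Agent.EtGabber

/-- In a ring integrally closed in an algebraically closed field every monic polynomial splits. -/
theorem mem_range_of_root {B L K : Type*} [CommRing B] [Field L] [IsAlgClosed L] [Algebra B L] [Field K]
    (hinj : Function.Injective (algebraMap B L)) (hic : ∀ x : L, IsIntegral B x → ∃ b, algebraMap B L b = x)
    (φ : B →+* K) (P : B[X]) (hP : P.Monic) (y : K) (hy : (P.map φ).eval y = 0) : y ∈ Set.range φ := by
  classical
  set Q := P.map (algebraMap B L)
  have hQ : Q.Monic := hP.map _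
  let rts : Multiset B := Q.roots.map (Function.invFun (algebraMap B L))
  have hrts : rts.map (algebraMap B L) = Q.roots := by
    rw [Multiset.map_map]
    conv_rhs => rw [← Multiset.map_id Q.roots]
    refine Multiset.map_congr rfl fun r hr => ?_
    have hev : eval₂ (algebraMap B L) r P = 0 := by
      rw [← Polynomial.eval_map]; exact (mem_roots hQ.ne_zero).1 hr
    exact Function.invFun_eq (hic r ⟨P, hP, hev⟩)
  have hprod : P = (rts.map fun b => X - C b).prod := by
    apply Polynomial.map_injective _ hinj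
    show Q = _
    rw [Polynomial.map_multiset_prod, Multiset.map_map]
    conv_lhs => rw [(IsAlgClosed.splits Q).eq_prod_roots_of_monic hQ, ← hrts, Multiset.map_map]
    exact congrArg Multiset.prod (Multiset.map_congr rfl fun b _ => by simp)
  rw [hprod, Polynomial.map_multiset_prod, eval_multiset_prod, Multiset.prod_eq_zero_iff, Multiset.map_map,
    Multiset.map_map] at hy
  obtain ⟨b, -, hb⟩ := Multiset.mem_map.1 hy
  refine ⟨b, (sub_eq_zero.1 (Eq.trans ?_ hb)).symm⟩
  simp

theorem isAlgClosed_of_fractions {B L κ : Type u} [CommRing B] [Field L] [IsAlgClosed L] [Algebra B L] [Field κ]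
    (hinj : Function.Injective (algebraMap B L)) (hic : ∀ x : L, IsIntegral B x → ∃ b, algebraMap B L b = x)
    (φ : B →+* κ) (hfrac : ∀ z : κ, ∃ a b, z = φ a / φ b) : IsAlgClosed κ := by
  refine IsAlgClosed.of_exists_root κ fun p hp hirr => ?_
  let K := AlgebraicClosure κ
  obtain ⟨x, hx⟩ := IsAlgClosed.exists_aeval_eq_zero K p hirr.degree_pos.ne'
  let S := φ.range
  haveI : IsFractionRing S κ := IsFractionRing.of_field S κ fun z => by
    obtain ⟨a, b, rfl⟩ := hfrac z
    exact ⟨⟨φ a, a, rfl⟩, ⟨φ b, b, rfl⟩, rfl⟩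
  have halg : IsAlgebraic S x := (IsFractionRing.isAlgebraic_iff S κ K).2 ⟨p, hp.ne_zero, hx⟩
  obtain ⟨d, hd, hint⟩ := halg.exists_integral_multiple
  obtain ⟨Q, hQ, hQ0⟩ := hint
  obtain ⟨P, hP, -, hPm⟩ := Polynomial.lifts_and_degree_eq_and_monic
    (f := φ.rangeRestrict) ((lifts_iff_coeff_lifts _).2 fun n => φ.rangeRestrict_surjective _) hQ
  let ψ : B →+* K := (algebraMap S K).comp φ.rangeRestrict
  obtain ⟨b, hb⟩ := mem_range_of_root hinj hic ψ P hPm (d • x) (by
    rw [← Polynomial.map_map, hP, Polynomial.eval_map]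
    exact hQ0)
  have hdK : algebraMap S K d ≠ 0 := by
    rw [IsScalarTower.algebraMap_apply S κ K]
    exact (_root_.map_ne_zero _).2 ((map_ne_zero_iff _ (IsFractionRing.injective S κ)).2 hd)
  refine ⟨φ b / (d : κ), ?_⟩
  have hxe : algebraMap κ K (φ b / (d : κ)) = x := by
    rw [map_div₀]
    have h1 : algebraMap κ K (φ b) = ψ b := rfl
    rw [h1, hb, Algebra.smul_def]
    exact mul_div_cancel_left₀ x hdK
  apply (algebraMap κ K).injective
  rw [map_zero, ← hx, ← hxe, aeval_algebraMap_apply]
  rfl

/-- Every element of a residue field of an affine scheme is a quotient of two global values. -/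
theorem exists_eq_div {X : Scheme.{u}} [IsAffine X] (x : X) (z : X.residueField x) :
    ∃ a b : Γ(X, ⊤), z = X.Γevaluation x a / X.Γevaluation x b := by
  have hX := isAffineOpen_top X
  obtain ⟨s, rfl⟩ := X.residue_surjective x z
  letI := TopCat.Presheaf.algebra_section_stalk X.presheaf (⟨x, trivial⟩ : (⊤ : X.Opens))
  haveI : IsLocalization.AtPrime (X.presheaf.stalk x) (hX.primeIdealOf ⟨x, trivial⟩).asIdeal :=
    hX.isLocalization_stalk ⟨x, trivial⟩
  obtain ⟨a, b, rfl⟩ := IsLocalization.exists_mk'_eq (hX.primeIdealOf ⟨x, trivial⟩).asIdeal.primeCompl s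
  refine ⟨a, b, ?_⟩
  have hu : X.residue x (algebraMap Γ(X, ⊤) (X.presheaf.stalk x) b) ≠ 0 :=
    ((IsLocalization.map_units (X.presheaf.stalk x) b).map (X.residue x).hom).ne_zero
  show X.residue x (IsLocalization.mk' _ a b) = X.residue x (algebraMap _ _ a) / X.residue x (algebraMap _ _ (b : Γ(X, ⊤)))
  rw [eq_div_iff hu, ← map_mul, IsLocalization.mk'_spec]

/-- Integral morphisms induce integral residue field extensions. -/
theorem isIntegral_residueFieldMap {X' X : Scheme.{u}} (π : X' ⟶ X) [IsIntegralHom π] [IsAffine X]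
    [IsAffine X'] (x : X') : (π.residueFieldMap x).hom.IsIntegral := by
  have hint : π.appTop.hom.IsIntegral := IsIntegralHom.isIntegral_app π ⊤ (isAffineOpen_top X)
  let ρ := (π.residueFieldMap x).hom
  let F := X.residueField (π x)
  letI : Algebra F (X'.residueField x) := ρ.toAlgebra
  have key : ∀ a, IsIntegral F (X'.Γevaluation x a) := fun a => by
    obtain ⟨P, hP, hPa⟩ := hint a
    refine ⟨P.map (X.Γevaluation (π x)).hom, hP.map _, ?_⟩
    rw [eval₂_map]
    have e : ρ.comp (X.Γevaluation (π x)).hom = (X'.Γevaluation x).hom.comp π.appTop.hom :=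
      congrArg CommRingCat.Hom.hom (Scheme.Γevaluation_naturality π x)
    show eval₂ (ρ.comp (X.Γevaluation (π x)).hom) _ P = 0
    rw [e, ← hom_eval₂, hPa, map_zero]
  intro z
  obtain ⟨a, b, rfl⟩ := exists_eq_div x z
  rw [div_eq_mul_inv]
  exact (key a).mul (key b).inv

/-- An affine scheme has an integral surjection with algebraically closed residue fields. -/
theorem exists_algClosed_cover (X : Scheme.{u}) [IsAffine X] :
    ∃ (X' : Scheme.{u}) (_ : IsAffine X') (π : X' ⟶ X), IsIntegralHom π ∧ Surjective π ∧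
      ∀ x : X', IsAlgClosed (X'.residueField x) := by
  let R := Γ(X, ⊤)
  let P := MvPolynomial R ℤ
  let ev : P →+* R := MvPolynomial.eval₂Hom (Int.castRingHom R) id
  have hev : Function.Surjective ev := fun r => ⟨MvPolynomial.X r, MvPolynomial.eval₂Hom_X' _ _ _⟩
  let L := AlgebraicClosure (FractionRing P)
  haveI : FaithfulSMul P L := (faithfulSMul_iff_algebraMap_injective P L).2 (by
    rw [IsScalarTower.algebraMap_eq P (FractionRing P) L]
    exact (algebraMap (FractionRing P) L).injective.comp (IsFractionRing.injective P _))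
  let B := integralClosure P L
  haveI : FaithfulSMul P B := (faithfulSMul_iff_algebraMap_injective P B).2 fun a b h =>
    FaithfulSMul.algebraMap_injective P L (congrArg Subtype.val h)
  let p : Spec (CommRingCat.of B) ⟶ Spec (CommRingCat.of P) := Spec.map (CommRingCat.ofHom (algebraMap P B))
  let c : X ⟶ Spec (CommRingCat.of P) := X.isoSpec.hom ≫ Spec.map (CommRingCat.ofHom ev)
  haveI : IsClosedImmersion c := by
    haveI := IsClosedImmersion.spec_of_surjective (CommRingCat.ofHom ev) hev
    infer_instance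
  haveI : IsIntegralHom p := IsIntegralHom.SpecMap_iff.2 (Algebra.IsIntegral.isIntegral (R := P) (A := B))
  haveI : Surjective p := ⟨Algebra.IsIntegral.comap_surjective P B⟩
  let j := pullback.fst p c
  haveI : IsAffine (pullback p c) := (IsClosedImmersion.isAffine_surjective_of_isAffine j).1
  refine ⟨pullback p c, inferInstance, pullback.snd p c, inferInstance, inferInstance, fun x => ?_⟩
  let φ : B →+* (pullback p c).residueField x :=
    (((Scheme.ΓSpecIso (CommRingCat.of B)).inv ≫ j.appTop) ≫ (pullback p c).Γevaluation x).hom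
  refine isAlgClosed_of_fractions (L := L) Subtype.val_injective
    (fun y hy => ⟨⟨y, isIntegral_trans (R := P) (A := B) y hy⟩, rfl⟩) φ fun z => ?_
  obtain ⟨a, b, rfl⟩ := exists_eq_div x z
  obtain ⟨a', rfl⟩ := (IsClosedImmersion.isAffine_surjective_of_isAffine j).2 a
  obtain ⟨b', rfl⟩ := (IsClosedImmersion.isAffine_surjective_of_isAffine j).2 b
  refine ⟨(Scheme.ΓSpecIso (CommRingCat.of B)).hom a', (Scheme.ΓSpecIso (CommRingCat.of B)).hom b', ?_⟩
  simp only [φ, CommRingCat.hom_comp, RingHom.comp_apply, Iso.hom_inv_id_apply]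

/-- Quasi-compact quasi-separated schemes. -/
theorem exists_algClosed_cover_qcqs (X : Scheme.{u}) [CompactSpace X] [QuasiSeparatedSpace X] :
    ∃ (X' : Scheme.{u}) (f : X' ⟶ X), IsAffine X' ∧ QuasiCompact f ∧ Surjective f ∧
      ∀ x' : X', IsAlgClosed (X'.residueField x') ∧ (f.residueFieldMap x').hom.IsIntegral := by
  let 𝒰 := X.affineCover.finiteSubcover
  haveI : ∀ i, IsAffine (𝒰.X i) := fun i => inferInstanceAs (IsAffine (X.affineCover.X _))
  let p : ∐ 𝒰.X ⟶ X := Sigma.desc 𝒰.f
  haveI : Surjective p := by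
    refine ⟨fun x => ?_⟩
    obtain ⟨i, y, hy⟩ := 𝒰.exists_eq x
    exact ⟨Sigma.ι 𝒰.X i y, by rw [← hy, ← Scheme.Hom.comp_apply, Sigma.ι_desc]⟩
  obtain ⟨X', hX', π, hπ, hπs, hac⟩ := exists_algClosed_cover (∐ 𝒰.X)
  haveI := hπ
  haveI := hπs
  haveI := hX'
  haveI : QuasiCompact (π ≫ p) := by
    haveI : QuasiCompact ((π ≫ p) ≫ terminal.from X) := by
      rw [show (π ≫ p) ≫ terminal.from X = terminal.from X' from terminal.hom_ext _ _]; infer_instance
    exact QuasiCompact.of_comp (π ≫ p) (terminal.from X)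
  refine ⟨X', π ≫ p, hX', inferInstance, inferInstance, fun x => ⟨hac x, ?_⟩⟩
  rw [Scheme.residueFieldMap_comp, CommRingCat.hom_comp]
  refine RingHom.IsIntegral.trans _ _ ?_ (isIntegral_residueFieldMap π x)
  obtain ⟨i, y, hy⟩ := (AlgebraicGeometry.sigmaOpenCover 𝒰.X).exists_eq (π x)
  replace hy : Sigma.ι 𝒰.X i y = π x := hy
  suffices h : ∀ z : (∐ 𝒰.X : Scheme.{u}), Sigma.ι 𝒰.X i y = z → (p.residueFieldMap z).hom.IsIntegral from h _ hy
  rintro z rfl
  haveI : IsIso (p.residueFieldMap (Sigma.ι 𝒰.X i y)) := by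
    have e : Sigma.ι 𝒰.X i ≫ p = 𝒰.f i := Sigma.ι_desc _ _
    haveI : IsOpenImmersion (Sigma.ι 𝒰.X i ≫ p) := by rw [e]; infer_instance
    exact IsIso.of_isIso_fac_right (h := (Sigma.ι 𝒰.X i ≫ p).residueFieldMap y)
      (Scheme.residueFieldMap_comp (Sigma.ι 𝒰.X i) p y).symm
  exact RingHom.isIntegral_of_surjective _
    (ConcreteCategory.bijective_of_isIso (p.residueFieldMap (Sigma.ι 𝒰.X i y))).2

end Groth.Agent.EtGabber
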