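import Groth.Agent.EtGabber.NormalConst
import Mathlib.AlgebraicGeometry.Morphisms.Integral
import Mathlib.RingTheory.Localization.Integral
import Mathlib.AlgebraicGeometry.AffineSpace

/-!
# Integral covers with acyclic closed subschemes
-/

set_option autoImplicit false
set_option linter.all false
set_option backward.isDefEq.respectTransparency.types false
set_option backward.isDefEq.respectTransparency false
set_option synthInstance.maxHeartbeats 400000
set_option maxHeartbeats 1000000

universe u

open CategoryTheory CategoryTheory.Limits AlgebraicGeometry Opposite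

namespace Groth.Agent.EtGabber

theorem isSepClosed_functionField_spec (R : CommRingCat.{u}) [IsDomain R] (K : Type u) [Field K]
    [Algebra R K] [IsFractionRing R K] [IsSepClosed K] : IsSepClosed (Spec R).functionField :=
  isSepClosed_of_equiv (K := K)
    (IsLocalization.algEquiv (nonZeroDivisors R) K (Spec R).functionField).toRingEquiv

theorem isIntegrallyClosed_stalk_spec (R : CommRingCat.{u}) [IsDomain R] [IsIntegrallyClosed R]
    (y : Spec R) : IsIntegrallyClosed ((Spec R).presheaf.stalk y) := by
  let P : Ideal R := (y : PrimeSpectrum R).asIdeal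
  haveI : IsIntegrallyClosed (Localization.AtPrime P) :=
    isIntegrallyClosed_of_isLocalization _ P.primeCompl (Ideal.primeCompl_le_nonZeroDivisors P)
  exact IsIntegrallyClosed.of_equiv (StructureSheaf.stalkIso R (y : PrimeSpectrum R)).toRingEquiv

/-- Every affine scheme has an integral surjection from a closed subscheme of an affine integral normal
scheme with separably closed function field. -/
theorem exists_cover (X : Scheme.{u}) [IsAffine X] :
    ∃ (Y : Scheme.{u}) (_ : IsAffine Y) (_ : IsIntegral Y) (X' : Scheme.{u}) (π : X' ⟶ X) (j : X' ⟶ Y),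
      IsIntegralHom π ∧ Surjective π ∧ IsClosedImmersion j ∧
      (∀ y : Y, IsIntegrallyClosed (Y.presheaf.stalk y)) ∧ IsSepClosed Y.functionField := by
  let R := Γ(X, ⊤)
  let P := MvPolynomial R ℤ
  let ev : P →+* R := MvPolynomial.eval₂Hom (Int.castRingHom R) id
  have hev : Function.Surjective ev := fun r => ⟨MvPolynomial.X r, MvPolynomial.eval₂Hom_X' _ _ _⟩
  let L := AlgebraicClosure (FractionRing P)
  haveI : Algebra.IsAlgebraic P L := (IsFractionRing.comap_isAlgebraic_iff (A := P) (K := FractionRing P) (C := L)).mpr inferInstance
  let B := integralClosure P L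
  haveI : FaithfulSMul P L := (faithfulSMul_iff_algebraMap_injective P L).2 (by
    rw [IsScalarTower.algebraMap_eq P (FractionRing P) L]
    exact (algebraMap (FractionRing P) L).injective.comp (IsFractionRing.injective P _))
  haveI : FaithfulSMul P B := (faithfulSMul_iff_algebraMap_injective P B).2 fun a b h =>
    FaithfulSMul.algebraMap_injective P L (congrArg Subtype.val h)
  haveI : IsFractionRing B L := integralClosure.isFractionRing_of_algebraic (A := P) (L := L) (fun x hx =>
    (map_eq_zero_iff _ (FaithfulSMul.algebraMap_injective P L)).1 hx)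
  haveI : IsIntegrallyClosed B := (isIntegrallyClosed_iff L).2 fun {x} hx => ⟨⟨x,
    isIntegral_trans (R := P) (A := B) x hx⟩, rfl⟩
  let Y := Spec (CommRingCat.of B)
  let p : Y ⟶ Spec (CommRingCat.of P) := Spec.map (CommRingCat.ofHom (algebraMap P B))
  let c : X ⟶ Spec (CommRingCat.of P) := X.isoSpec.hom ≫ Spec.map (CommRingCat.ofHom ev)
  haveI : IsClosedImmersion c := by
    haveI := IsClosedImmersion.spec_of_surjective (CommRingCat.ofHom ev) hev
    infer_instance
  haveI : IsIntegralHom p := IsIntegralHom.SpecMap_iff.2 (Algebra.IsIntegral.isIntegral (R := P) (A := B))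
  haveI : Surjective p := by
    refine ⟨?_⟩
    exact Algebra.IsIntegral.comap_surjective P B
  haveI : IsDomain (CommRingCat.of B) := inferInstanceAs (IsDomain B)
  haveI : IsIntegrallyClosed (CommRingCat.of B) := inferInstanceAs (IsIntegrallyClosed B)
  refine ⟨Y, inferInstance, inferInstance, pullback p c, pullback.snd p c, pullback.fst p c, inferInstance,
    inferInstance, inferInstance, fun y => ?_, ?_⟩
  · exact isIntegrallyClosed_stalk_spec (CommRingCat.of B) y
  · exact @isSepClosed_functionField_spec (CommRingCat.of B) inferInstance L _
      (inferInstanceAs (Algebra B L)) (inferInstanceAs (IsFractionRing B L)) inferInstance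

end Groth.Agent.EtGabber
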