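import Groth.Agent.EtMV.Main
import Groth.Agent.EtZarCmp.Section
import Groth.Agent.EtCechLib.Etale
import Groth.Agent.EtLimit.Bridge
import Groth.Prelude.Def_EtZar

/-!
# Cohomology classes vanish Zariski locally when the local rings are strictly henselian
-/

set_option autoImplicit false
set_option linter.all false
set_option backward.isDefEq.respectTransparency.types false
set_option backward.isDefEq.respectTransparency false
set_option backward.defeqAttrib.useBackward true
set_option synthInstance.maxHeartbeats 400000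
set_option maxHeartbeats 1000000

universe u

open CategoryTheory Limits AlgebraicGeometry Opposite CategoryTheory.Abelian
open Groth.Agent.Et18 Groth.Agent.EtMV Groth.Agent.EtLimit

namespace Groth.Agent.EtGabber

variable {X : Scheme.{u}}

/-- The open subscheme over itself. -/
noncomputable def selfSect (W : X.Opens) :
    EtCoh.top (W : Scheme.{u}) ⟶ (EtCoh.bc W.ι).obj ((EtZar.zarToEt X).obj W) :=
  MorphismProperty.Over.homMk (pullback.lift (𝟙 _) (𝟙 _) rfl) (pullback.lift_snd _ _ _) trivial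

/-- The unit of the pullback adjunction on sections. -/
noncomputable abbrev eta {Y : Scheme.{u}} (f : Y ⟶ X) [EtCoh.BCCont f] (F : EtCoh.Ab X) (V : X.Etale)
    (s : F.obj.obj (op V)) : ((EtCoh.pull f).obj F).obj.obj (op ((EtCoh.bc f).obj V)) :=
  adjSect f (𝟙 ((EtCoh.pull f).obj F)) V s

theorem pull_map_eta {Y : Scheme.{u}} (f : Y ⟶ X) {F G : EtCoh.Ab X} (g : F ⟶ G) (V : X.Etale)
    (s : F.obj.obj (op V)) :
    ((EtCoh.pull f).map g).hom.app (op ((EtCoh.bc f).obj V)) (eta f F V s) = eta f G V (g.hom.app (op V) s) := by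
  rw [eta, ← EtLimit.adjSect_comp, Category.id_comp]
  exact (congrArg (fun b => adjSect f b V s) (Category.comp_id ((EtCoh.pull f).map g)).symm).trans
    (EtLimit.adjSect_pull_map f g (𝟙 _) V s)

/-- Local lifts of global sections along epimorphisms. -/
theorem exists_lift (hS : ∀ x : X, EtCoh.IsStrictlyHenselianLocalRing (X.presheaf.stalk x))
    {I G : EtCoh.Ab X} (g : I ⟶ G) [Epi g] (s : ZZ X ⟶ G) (x : X) :
    ∃ (W : X.Opens) (_ : x ∈ W) (l : PP W.ι ⟶ I), l ≫ g = aMap W.ι ≫ s := by
  haveI : Sheaf.IsLocallySurjective g :=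
    (Sheaf.isLocallySurjective_iff_epi' (A := AddCommGrpCat.{u + 1}) g).2 inferInstance
  let M := AddCommGrpCat.of (ULift.{u + 1} ℤ)
  let one : M := ULift.up 1
  let s₀ := sec M s one
  obtain ⟨Z, k, ⟨y, hy⟩, z, hz⟩ := EtCechLib.exists_mem_of_mem
    (Presheaf.imageSieve_mem X.smallEtaleTopology g.hom s₀) (x : (EtCoh.top X).left)
  haveI : Etale Z.hom := Z.prop
  have hk : k.left ≫ 𝟙 X = Z.hom := CategoryTheory.Over.w k.hom
  have hzs : Z.hom z = x := by
    refine (congrArg (fun m => m z) hk).symm.trans ?_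
    exact hz
  obtain ⟨W, hW, σ, hσ⟩ := EtZarCmp.exists_open_section (Y := X) Z.hom z (hS _)
  let V := (EtZar.zarToEt X).obj W
  let σ' : V ⟶ Z := MorphismProperty.Over.homMk σ hσ trivial
  let e : V ⟶ EtCoh.top X := σ' ≫ k
  let y' := I.obj.map σ'.op y
  have hy' : g.hom.app (op V) y' = G.obj.map e.op s₀ := by
    rw [show y' = I.obj.map σ'.op y from rfl, NatTrans.naturality_apply, show e.op = k.op ≫ σ'.op from rfl,
      Functor.map_comp_apply]
    exact congrArg (G.obj.map σ'.op) hy
  let N := (EtCoh.pull W.ι).obj I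
  let t := N.obj.map (selfSect W).op (eta W.ι I V y')
  let tt : M ⟶ N.obj.obj (op (EtCoh.top (W : Scheme.{u}))) :=
    AddCommGrpCat.ofHom ((zmultiplesHom _ t).comp AddEquiv.ulift.toAddMonoidHom)
  let l : ZZ (W : Scheme.{u}) ⟶ N := ((EtCore.constAdj _).homEquiv M N).symm tt
  have hl : sec M l = tt := Equiv.apply_symm_apply _ _
  have key : l ≫ (EtCoh.pull W.ι).map g = phi W.ι ≫ (EtCoh.pull W.ι).map s := by
    refine ((EtCore.constAdj _).homEquiv M _).injective ?_
    have h1 : sec M (l ≫ (EtCoh.pull W.ι).map g) = tt ≫ ((EtCoh.pull W.ι).map g).hom.app _ :=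
      ((EtCore.constAdj _).homEquiv_naturality_right _ _).trans (by rw [← hl]; rfl)
    have h2 : sec M (phi W.ι ≫ (EtCoh.pull W.ι).map s) one =
        ((EtCoh.pull W.ι).obj G).obj.map (EtCore.bcTopIso W.ι).inv.op (eta W.ι G (EtCoh.top X) s₀) := by
      have := sec_pull W.ι M s (𝟙 ((EtCoh.pull W.ι).obj G)) one
      rwa [Category.comp_id] at this
    have h3 : sec M (l ≫ (EtCoh.pull W.ι).map g) one =
        sec M (phi W.ι ≫ (EtCoh.pull W.ι).map s) one := by
      rw [h2, h1]
      show ((EtCoh.pull W.ι).map g).hom.app _ (tt one) = _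
      have : tt one = t := one_zsmul t
      rw [this, show t = N.obj.map (selfSect W).op (eta W.ι I V y') from rfl, NatTrans.naturality_apply,
        pull_map_eta, hy']
      have hn := NatTrans.naturality_apply ((EtCoh.pullPushAdj W.ι).homEquiv _ _ (𝟙 ((EtCoh.pull W.ι).obj G))).hom e.op s₀
      refine (congrArg (((EtCoh.pull W.ι).obj G).obj.map (selfSect W).op) hn).trans ?_
      refine ((ConcreteCategory.congr_hom (((EtCoh.pull W.ι).obj G).obj.map_comp ((EtCoh.bc W.ι).map e).op
        (selfSect W).op) _).symm).trans ?_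
      refine congrArg (fun m => ((EtCoh.pull W.ι).obj G).obj.map (Quiver.Hom.op m) (eta W.ι G (EtCoh.top X) s₀)) ?_
      exact (EtCore.bcTopIsTerminal W.ι).hom_ext _ _
    refine AddCommGrpCat.hom_ext ?_
    refine AddMonoidHom.ext fun n => ?_
    obtain ⟨n⟩ := n
    have hn : (ULift.up n : ULift.{u + 1} ℤ) = n • one := by
      apply ULift.ext
      show n = n • (1 : ℤ)
      simp
    show sec M (l ≫ (EtCoh.pull W.ι).map g) (ULift.up n) = sec M (phi W.ι ≫ (EtCoh.pull W.ι).map s) (ULift.up n)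
    rw [hn, map_zsmul, map_zsmul, h3]
  refine ⟨W, hzs ▸ hW, ((shriekAdj W.ι).homEquiv _ _).symm l, ?_⟩
  refine ((shriekAdj W.ι).homEquiv _ _).injective ?_
  rw [Adjunction.homEquiv_naturality_right, Equiv.apply_symm_apply, Adjunction.homEquiv_naturality_right,
    aMap, Equiv.apply_symm_apply]
  exact key

/-- A cohomology class of positive degree vanishes near any point. -/
theorem exists_open_zero (hS : ∀ x : X, EtCoh.IsStrictlyHenselianLocalRing (X.presheaf.stalk x)) (n : ℕ) :
    ∀ (F : EtCoh.Ab X) (ξ : Ext (ZZ X) F (n + 1)) (x : X),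
      ∃ (W : X.Opens) (_ : x ∈ W), (Ext.mk₀ (aMap W.ι)).comp ξ (zero_add (n + 1)) = 0 := by
  induction n with
  | zero =>
    intro F ξ x
    let S := SiteCoh.injEmbed F
    have hE := SiteCoh.injEmbed_shortExact F
    haveI := hE.epi_g
    haveI : Injective S.X₂ := inferInstanceAs (Injective (Injective.under F))
    obtain ⟨θ, rfl⟩ := Ext.covariant_sequence_exact₁ (ZZ X) hE ξ (Ext.eq_zero_of_injective _) (rfl : 0 + 1 = 0 + 1)
    obtain ⟨s, rfl⟩ := (Ext.mk₀_bijective _ _).2 θ
    obtain ⟨W, hW, l, hl⟩ := exists_lift hS S.g s x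
    refine ⟨W, hW, ?_⟩
    rw [Ext.mk₀_comp_mk₀_assoc, ← hl, ← Ext.mk₀_comp_mk₀_assoc, hE.comp_extClass, Ext.comp_zero]
  | succ n ih =>
    intro F ξ x
    let S := SiteCoh.injEmbed F
    have hE := SiteCoh.injEmbed_shortExact F
    haveI : Injective S.X₂ := inferInstanceAs (Injective (Injective.under F))
    obtain ⟨θ, rfl⟩ := Ext.covariant_sequence_exact₁ (ZZ X) hE ξ (Ext.eq_zero_of_injective _) (rfl : (n + 1) + 1 = _)
    obtain ⟨W, hW, h⟩ := ih _ θ x
    refine ⟨W, hW, ?_⟩
    rw [← Ext.comp_assoc (Ext.mk₀ (aMap W.ι)) θ hE.extClass (zero_add (n + 1)) rfl (by omega), h, Ext.zero_comp]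

end Groth.Agent.EtGabber
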