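import Groth.Agent.EtGabber.Local
import Groth.Agent.HenselLib.WLocAtPoint

/-!
# Gabber's criterion for the vanishing of higher cohomology
-/

set_option autoImplicit false
set_option linter.all false
set_option backward.isDefEq.respectTransparency.types false
set_option backward.isDefEq.respectTransparency false
set_option backward.defeqAttrib.useBackward true
set_option synthInstance.maxHeartbeats 400000
set_option maxHeartbeats 1000000

universe u

open CategoryTheory Limits AlgebraicGeometry Opposite CategoryTheory.Abelian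
open Groth.Agent.Et18 Groth.Agent.EtMV

namespace Groth.Agent.EtGabber

variable {X : Scheme.{u}}

instance mono_aMap {U : Scheme.{u}} (j : U ⟶ X) [IsOpenImmersion j] : Mono (aMap j) :=
  mono_of_stalks _ fun x => by
    by_cases hx : x ∈ Set.range j
    · haveI := isIso_stalk_aMap j hx
      exact ((ConcreteCategory.isIso_iff_bijective ((EtCoh.stalk (sepPoint X x)).map (aMap j))).1 inferInstance).1
    · exact fun _ _ _ => (AddCommGrpCat.subsingleton_of_isZero (isZero_stalk_PP j hx)).elim _ _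

theorem bMap_bMap {A B C : Scheme.{u}} (jA : A ⟶ X) (jB : B ⟶ X) (jC : C ⟶ X) [IsOpenImmersion jA]
    [IsOpenImmersion jB] [IsOpenImmersion jC] (k : B ⟶ A) (w : k ≫ jA = jB) (l : C ⟶ B) (v : l ≫ jB = jC)
    (m : C ⟶ A) (e : m ≫ jA = jC) : bMap jB jC l v ≫ bMap jA jB k w = bMap jA jC m e :=
  (cancel_mono (aMap jA)).1 (by rw [Category.assoc, bMap_aMap, bMap_aMap, bMap_aMap])

/-- The map between extensions by zero from nested opens. -/
noncomputable abbrev bb {U W : X.Opens} (h : W ≤ U) : PP W.ι ⟶ PP U.ι :=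
  bMap U.ι W.ι (X.homOfLE h) (X.homOfLE_ι h)

theorem bb_bb {A B C : X.Opens} (h : B ≤ A) (h' : C ≤ B) : bb h' ≫ bb h = bb (h'.trans h) :=
  bMap_bMap _ _ _ _ _ _ _ _ _

theorem bb_self {A : X.Opens} (h : A ≤ A) : bb h = 𝟙 _ :=
  (cancel_mono (aMap A.ι)).1 (by rw [bMap_aMap, Category.id_comp])

/-- The Mayer–Vietoris square of two opens inside their union is short exact. -/
theorem shortExact_bb {U V W Z : X.Opens} (hU : U ≤ Z) (hV : V ≤ Z) (hWU : W ≤ U) (hWV : W ≤ V)
    (hZ : ∀ x ∈ Z, x ∈ U ∨ x ∈ V) (hW : ∀ x, x ∈ W ↔ x ∈ U ∧ x ∈ V) :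
    (sq (bb hWU) (bb hWV) (bb hU) (bb hV) ((bb_bb hU hWU).trans (bb_bb hV hWV).symm)).ShortExact := by
  let b₁ := bb hWU
  let b₂ := bb hWV
  let S := sq b₁ b₂ (bb hU) (bb hV) ((bb_bb hU hWU).trans (bb_bb hV hWV).symm)
  have hr : ∀ (A : X.Opens) (x : X), x ∈ Set.range A.ι ↔ x ∈ A := fun A x => by rw [Scheme.Opens.range_ι]; rfl
  haveI : Mono (b₁ ≫ aMap U.ι) := by rw [bMap_aMap]; infer_instance
  haveI : Mono b₁ := mono_of_mono b₁ (aMap U.ι)
  have hmono : Mono S.f := mono_of_mono_fac (biprod.lift_fst b₁ (-b₂))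
  have hepi : Epi S.g := epi_of_stalks _ fun x => by
    by_cases hx : x ∈ Set.range Z.ι
    · rcases hZ x ((hr Z x).1 hx) with h | h
      · haveI := isIso_stalk_bMap Z.ι U.ι (X.homOfLE hU) (X.homOfLE_ι hU) ((hr U x).2 h)
        have e : (EtCoh.stalk (sepPoint X x)).map biprod.inl ≫ (EtCoh.stalk (sepPoint X x)).map S.g =
            (EtCoh.stalk (sepPoint X x)).map (bb hU) := by
          rw [← Functor.map_comp]; exact congrArg _ (biprod.inl_desc _ _)
        exact (AddCommGrpCat.epi_iff_surjective _).1 (epi_of_epi_fac e)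
      · haveI := isIso_stalk_bMap Z.ι V.ι (X.homOfLE hV) (X.homOfLE_ι hV) ((hr V x).2 h)
        have e : (EtCoh.stalk (sepPoint X x)).map biprod.inr ≫ (EtCoh.stalk (sepPoint X x)).map S.g =
            (EtCoh.stalk (sepPoint X x)).map (bb hV) := by
          rw [← Functor.map_comp]; exact congrArg _ (biprod.inr_desc _ _)
        exact (AddCommGrpCat.epi_iff_surjective _).1 (epi_of_epi_fac e)
    · exact fun y => ⟨0, (AddCommGrpCat.subsingleton_of_isZero (isZero_stalk_PP Z.ι hx)).elim _ _⟩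
  refine { exact := exact_of_stalks _ fun x => ?_ }
  let st := EtCoh.stalk (sepPoint X x)
  haveI : PreservesFiniteLimits st := Et18.stalk_preservesFiniteLimits (sepPoint X x)
  haveI : st.Additive := Functor.additive_of_preserves_binary_products _
  rw [ShortComplex.ab_exact_iff]
  intro t ht
  let p := st.map biprod.fst t
  let q := st.map biprod.snd t
  have htot : t = st.map biprod.inl p + st.map biprod.inr q := by
    have e : 𝟙 (st.obj S.X₂) = st.map biprod.fst ≫ st.map biprod.inl + st.map biprod.snd ≫ st.map biprod.inr := by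
      rw [← Functor.map_comp, ← Functor.map_comp, ← Functor.map_add, biprod.total, CategoryTheory.Functor.map_id]
    exact ConcreteCategory.congr_hom e t
  have h0 : st.map (aMap U.ι) p + st.map (aMap V.ι) q = 0 := by
    have e1 : st.map biprod.inl ≫ st.map S.g ≫ st.map (aMap Z.ι) = st.map (aMap U.ι) := by
      rw [← Functor.map_comp, ← Functor.map_comp, ← Category.assoc, biprod.inl_desc, bMap_aMap]
    have e2 : st.map biprod.inr ≫ st.map S.g ≫ st.map (aMap Z.ι) = st.map (aMap V.ι) := by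
      rw [← Functor.map_comp, ← Functor.map_comp, ← Category.assoc, biprod.inr_desc, bMap_aMap]
    rw [← e1, ← e2]
    show st.map (aMap Z.ι) (st.map S.g (st.map biprod.inl p)) + st.map (aMap Z.ι) (st.map S.g (st.map biprod.inr q)) = 0
    rw [← map_add, ← map_add, ← htot]
    exact (congrArg (st.map (aMap Z.ι)) ht).trans (map_zero _)
  have hf : ∀ r, st.map S.f r = st.map biprod.inl (st.map b₁ r) - st.map biprod.inr (st.map b₂ r) := fun r => by
    have e : st.map S.f = st.map b₁ ≫ st.map biprod.inl - st.map b₂ ≫ st.map biprod.inr := by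
      rw [← Functor.map_comp, ← Functor.map_comp, ← Functor.map_sub]
      exact congrArg _ (by simp [S, biprod.lift_eq, sub_eq_add_neg])
    exact ConcreteCategory.congr_hom e r
  have z0 : ∀ (A : X.Opens), x ∉ A → ∀ y : st.obj (PP A.ι), y = 0 := fun A hx y =>
    (AddCommGrpCat.subsingleton_of_isZero (isZero_stalk_PP A.ι (fun h => hx ((hr A x).1 h)))).elim _ _
  have inj : ∀ (A : X.Opens), x ∈ A → Function.Injective (st.map (aMap A.ι)) := fun A hx =>
    haveI := isIso_stalk_aMap A.ι ((hr A x).2 hx)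
    ((ConcreteCategory.isIso_iff_bijective (st.map (aMap A.ι))).1 inferInstance).1
  by_cases hxU : x ∈ U
  · by_cases hxV : x ∈ V
    · haveI := isIso_stalk_bMap U.ι W.ι (X.homOfLE hWU) (X.homOfLE_ι hWU) ((hr W x).2 ((hW x).2 ⟨hxU, hxV⟩))
      obtain ⟨r, hr'⟩ := ((ConcreteCategory.isIso_iff_bijective (st.map b₁)).1 inferInstance).2 p
      have hq : q = -(st.map b₂ r) := by
        apply inj V hxV
        rw [map_neg]
        have e : st.map (aMap V.ι) (st.map b₂ r) = st.map (aMap U.ι) (st.map b₁ r) := by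
          have := ConcreteCategory.congr_hom (congrArg st.map
            ((bMap_aMap V.ι W.ι (X.homOfLE hWV) (X.homOfLE_ι hWV)).trans
              (bMap_aMap U.ι W.ι (X.homOfLE hWU) (X.homOfLE_ι hWU)).symm)) r
          simpa only [Functor.map_comp, ConcreteCategory.comp_apply] using this
        rw [e, hr']
        exact eq_neg_of_add_eq_zero_right h0
      refine ⟨r, ?_⟩
      change st.map S.f r = t
      rw [hf, htot, hr', hq, map_neg, sub_eq_add_neg]
    · have hq := z0 V hxV q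
      have hp : p = 0 := inj U hxU (by rw [map_zero]; simpa [hq] using h0)
      exact ⟨0, (map_zero _).trans (by rw [htot, hp, hq, map_zero, map_zero, add_zero])⟩
  · have hp := z0 U hxU p
    by_cases hxV : x ∈ V
    · have hq : q = 0 := inj V hxV (by rw [map_zero]; simpa [hp] using h0)
      exact ⟨0, (map_zero _).trans (by rw [htot, hp, hq, map_zero, map_zero, add_zero])⟩
    · exact ⟨0, (map_zero _).trans (by rw [htot, hp, z0 V hxV q, map_zero, map_zero, add_zero])⟩

variable (F : EtCoh.Ab X)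

/-- `z` restricts to zero on `W`. -/
def Kills {U : X.Opens} {n : ℕ} (z : Ext (PP U.ι) F n) (W : X.Opens) : Prop :=
  ∃ h : W ≤ U, (Ext.mk₀ (bb h)).comp z (zero_add n) = 0

theorem Kills.mono {U : X.Opens} {n : ℕ} {z : Ext (PP U.ι) F n} {W W' : X.Opens} (hk : Kills F z W) (hW : W' ≤ W) :
    Kills F z W' := by
  obtain ⟨h, hz⟩ := hk
  refine ⟨hW.trans h, ?_⟩
  rw [← bb_bb h hW, ← Ext.mk₀_comp_mk₀_assoc, hz, Ext.comp_zero]

theorem kills_bot {U : X.Opens} {n : ℕ} (z : Ext (PP U.ι) F n) : Kills F z ⊥ := by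
  have h : IsZero (PP (⊥ : X.Opens).ι) := isZero_of_stalks fun x => isZero_stalk_PP _ (by
    rw [Scheme.Opens.range_ι]; exact id)
  exact ⟨bot_le, by rw [h.eq_of_src (bb bot_le) 0, Ext.mk₀_zero, Ext.zero_comp]⟩

/-- The kernel hypothesis of the criterion. -/
def HKer : Prop :=
  ∀ (f g : Γ(X, ⊤))
    [PreservesFiniteLimits (EtCoh.pull (X.homOfLE ((X.basicOpen_mul f (f + g)).trans_le inf_le_right)))]
    [PreservesFiniteLimits (EtCoh.pull (X.homOfLE ((X.basicOpen_mul g (f + g)).trans_le inf_le_right)))]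
    (ξ : EtCoh.H ↑(X.basicOpen (f + g)) ((EtCoh.pull (X.basicOpen (f + g)).ι).obj F) 1),
    EtCore.HpullVia (X.homOfLE ((X.basicOpen_mul f (f + g)).trans_le inf_le_right)) (X.basicOpen (f + g)).ι
      (X.basicOpen (f * (f + g))).ι (X.homOfLE_ι ((X.basicOpen_mul f (f + g)).trans_le inf_le_right)) F 1 ξ = 0 →
    EtCore.HpullVia (X.homOfLE ((X.basicOpen_mul g (f + g)).trans_le inf_le_right)) (X.basicOpen (f + g)).ι
      (X.basicOpen (g * (f + g))).ι (X.homOfLE_ι ((X.basicOpen_mul g (f + g)).trans_le inf_le_right)) F 1 ξ = 0 →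
    ξ = 0

/-- Injectivity of the restriction to the two pieces. -/
theorem sum_zero (hker : HKer F) (n : ℕ)
    (ih : ∀ m, n = m + 1 → ∀ (h : Γ(X, ⊤)) (z : Ext (PP (X.basicOpen h).ι) F (m + 1)), z = 0)
    (a b : Γ(X, ⊤)) (z : Ext (PP (X.basicOpen (a + b)).ι) F (n + 1))
    (ha : Kills F z (X.basicOpen (a * (a + b)))) (hb : Kills F z (X.basicOpen (b * (a + b)))) : z = 0 := by
  obtain ⟨hA, ha⟩ := ha
  obtain ⟨hB, hb⟩ := hb
  match n with
  | 0 =>
    refine (map_eq_zero_iff _ (psi_bijective _ F 1).1).1 (hker a b (psi (X.basicOpen (a + b)).ι F 1 z) ?_ ?_)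
    · exact (hpullVia_psi (X.basicOpen (a + b)).ι _ _ _ F 1 z).trans ((congrArg _ ha).trans (map_zero _))
    · exact (hpullVia_psi (X.basicOpen (a + b)).ι _ _ _ F 1 z).trans ((congrArg _ hb).trans (map_zero _))
  | m + 1 =>
    let A := X.basicOpen (a * (a + b))
    let B := X.basicOpen (b * (a + b))
    let C := X.basicOpen (a * (a + b) * (b * (a + b)))
    have hCA : C ≤ A := (X.basicOpen_mul _ _).trans_le inf_le_left
    have hCB : C ≤ B := (X.basicOpen_mul _ _).trans_le inf_le_right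
    have hS := shortExact_bb hA hB hCA hCB
      (fun x hx => by
        have := X.basicOpen_add_le a b hx
        simp only [A, B, Scheme.basicOpen_mul]
        rcases this with h | h
        · exact Or.inl ⟨h, hx⟩
        · exact Or.inr ⟨h, hx⟩)
      (fun x => by simp only [A, B, C, Scheme.basicOpen_mul]; exact Iff.rfl)
    let S := sq (bb hCA) (bb hCB) (bb hA) (bb hB) ((bb_bb hA hCA).trans (bb_bb hB hCB).symm)
    have hg : (Ext.mk₀ S.g).comp z (zero_add _) = 0 := by
      have hid : 𝟙 S.X₂ = biprod.fst ≫ biprod.inl + biprod.snd ≫ biprod.inr := biprod.total.symm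
      have e : ∀ t : Ext S.X₂ F (m + 1 + 1), t =
          (Ext.mk₀ biprod.fst).comp ((Ext.mk₀ biprod.inl).comp t (zero_add _)) (zero_add _) +
          (Ext.mk₀ biprod.snd).comp ((Ext.mk₀ biprod.inr).comp t (zero_add _)) (zero_add _) := fun t => by
        rw [Ext.mk₀_comp_mk₀_assoc, Ext.mk₀_comp_mk₀_assoc, ← Ext.add_comp, ← Ext.mk₀_add, biprod.total,
          Ext.mk₀_id_comp]
      rw [e ((Ext.mk₀ S.g).comp z (zero_add _)), Ext.mk₀_comp_mk₀_assoc (biprod.inl), Ext.mk₀_comp_mk₀_assoc (biprod.inr),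
        biprod.inl_desc, biprod.inr_desc, ha, hb, Ext.comp_zero, Ext.comp_zero, add_zero]
    obtain ⟨x₁, rfl⟩ := Ext.contravariant_sequence_exact₃ hS F z hg (add_comm 1 (m + 1))
    rw [ih m rfl _ x₁, Ext.comp_zero]

/-- Classes vanish locally. -/
theorem exists_kills (hS : ∀ x : X, EtCoh.IsStrictlyHenselianLocalRing (X.presheaf.stalk x)) {U : X.Opens} {n : ℕ}
    (z : Ext (PP U.ι) F (n + 1)) (x : X) (hx : x ∈ U) : ∃ (W : X.Opens) (_ : x ∈ W), Kills F z W := by
  obtain ⟨W, hW, h⟩ := exists_open_zero (X := (U : Scheme.{u}))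
    (fun y => HenselLib.WLoc.strictlyHenselian_of_equiv (Scheme.Opens.stalkIso U y).commRingCatIsoToRingEquiv.symm (hS _))
    n _ (psi U.ι F (n + 1) z) ⟨x, hx⟩
  have h0 : EtCore.Hpull W.ι ((EtCoh.pull U.ι).obj F) (n + 1) (psi U.ι F (n + 1) z) = 0 :=
    (hpull_eq W.ι ((EtCoh.pull U.ι).obj F) (n + 1) _).trans ((congrArg _ h).trans (map_zero _))
  have h1 : (Ext.mk₀ (bMap U.ι (W.ι ≫ U.ι) W.ι rfl)).comp z (zero_add _) = 0 := by
    refine (map_eq_zero_iff _ (psi_bijective (W.ι ≫ U.ι) F (n + 1)).1).1 ?_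
    rw [← hpullVia_psi, hpullVia_apply, ← hpull_apply, h0, Ext.zero_comp]
  let W' : X.Opens := U.ι ''ᵁ W
  have hW' : W' ≤ U := fun y hy => by
    obtain ⟨w, -, rfl⟩ := hy
    exact w.2
  refine ⟨W', ⟨⟨x, hx⟩, hW, rfl⟩, hW', ?_⟩
  have hr : Set.range W'.ι ⊆ Set.range (W.ι ≫ U.ι) := by
    rw [Scheme.Opens.range_ι]
    rintro _ ⟨w, hw, rfl⟩
    exact ⟨⟨w, hw⟩, rfl⟩
  show (Ext.mk₀ (bMap U.ι W'.ι (X.homOfLE hW') (X.homOfLE_ι hW'))).comp z (zero_add _) = 0
  rw [← bMap_bMap U.ι (W.ι ≫ U.ι) W'.ι W.ι rfl (IsOpenImmersion.lift (W.ι ≫ U.ι) W'.ι hr)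
    (IsOpenImmersion.lift_fac _ _ hr) (X.homOfLE hW') (X.homOfLE_ι hW'), ← Ext.mk₀_comp_mk₀_assoc, h1, Ext.comp_zero]

theorem ext_zero {R : CommRingCat.{u}} (F : EtCoh.Ab (Spec R))
    (hS : ∀ x : Spec R, EtCoh.IsStrictlyHenselianLocalRing ((Spec R).presheaf.stalk x)) (hker : HKer F) (n : ℕ) :
    ∀ (h : Γ(Spec R, ⊤)) (z : Ext (PP ((Spec R).basicOpen h).ι) F (n + 1)), z = 0 := by
  induction n using Nat.strong_induction_on with
  | _ n ih =>
    intro h z
    let P := fun f => Kills F z ((Spec R).basicOpen (f * h))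
    let I : Ideal Γ(Spec R, ⊤) :=
      { carrier := {f | P f}
        zero_mem' := by
          show Kills F z _
          rw [zero_mul, Scheme.basicOpen_zero]
          exact kills_bot F z
        smul_mem' := fun r f hf => by
          show Kills F z _
          rw [smul_eq_mul, mul_assoc, Scheme.basicOpen_mul]
          exact Kills.mono F hf inf_le_right
        add_mem' := fun {f g} hf hg => by
          show Kills F z _
          rw [add_mul]
          have hle : (Spec R).basicOpen (f * h + g * h) ≤ (Spec R).basicOpen h := by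
            rw [← add_mul, Scheme.basicOpen_mul]; exact inf_le_right
          refine ⟨hle, sum_zero F hker n (fun m hm => ih m (by omega)) (f * h) (g * h) _ ?_ ?_⟩
          all_goals
            refine ⟨(Scheme.basicOpen_mul _ _ _).trans_le inf_le_right, ?_⟩
            rw [Ext.mk₀_comp_mk₀_assoc, bb_bb]
          · obtain ⟨_, hk⟩ := Kills.mono F hf (((Spec R).basicOpen_mul (f * h) (f * h + g * h)).trans_le inf_le_left)
            exact hk
          · obtain ⟨_, hk⟩ := Kills.mono F hg (((Spec R).basicOpen_mul (g * h) (f * h + g * h)).trans_le inf_le_left)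
            exact hk }
    have hrad : h ∈ I.radical := by
      rw [Ideal.radical_eq_sInf, Ideal.mem_sInf]
      rintro P ⟨hIP, hP⟩
      by_contra hh
      let x : Spec R := PrimeSpectrum.comap (Scheme.ΓSpecIso R).inv.hom ⟨P, hP⟩
      have hmem : ∀ f, x ∈ (Spec R).basicOpen f ↔ f ∉ P := fun f => by
        rw [basicOpen_eq_of_affine']
        show (Scheme.ΓSpecIso R).hom f ∉ P.comap (Scheme.ΓSpecIso R).inv.hom ↔ _
        rw [Ideal.mem_comap, Iso.hom_inv_id_apply]
      obtain ⟨W, hxW, hk⟩ := exists_kills F hS z x ((hmem h).2 hh)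
      obtain ⟨f, hfW, hxf⟩ := (isAffineOpen_top (Spec R)).exists_basicOpen_le ⟨x, hxW⟩ trivial
      exact (hmem f).1 hxf (hIP (Kills.mono F hk ((Scheme.basicOpen_mul _ _ _).trans_le (inf_le_left.trans hfW))))
    obtain ⟨k, hk⟩ := hrad
    have e : ∀ k, (Spec R).basicOpen (h ^ k * h) = (Spec R).basicOpen h := by
      intro k
      induction k with
      | zero => rw [pow_zero, one_mul]
      | succ k ihk => rw [pow_succ, mul_assoc, Scheme.basicOpen_mul, Scheme.basicOpen_mul]; rw [Scheme.basicOpen_mul] at ihk; rw [inf_idem, ihk]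
    have hk' : Kills F z ((Spec R).basicOpen (h ^ k * h)) := hk
    rw [e] at hk'
    obtain ⟨hle, hz⟩ := hk'
    rwa [bb_self, Ext.mk₀_id_comp] at hz

/-- Gabber's criterion. -/
theorem subsingleton_H {R : CommRingCat.{u}} (F : EtCoh.Ab (Spec R))
    (hS : ∀ x : Spec R, EtCoh.IsStrictlyHenselianLocalRing ((Spec R).presheaf.stalk x)) (hker : HKer F) (n : ℕ) :
    Subsingleton (EtCoh.H (Spec R) F (n + 1)) := by
  refine subsingleton_of_forall_eq 0 fun ξ => ?_
  haveI : IsIso (aMap ((Spec R).basicOpen (1 : Γ(Spec R, ⊤))).ι) := isIso_of_stalks _ fun x =>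
    isIso_stalk_aMap _ (by rw [Scheme.Opens.range_ι, Scheme.basicOpen_of_isUnit _ isUnit_one]; trivial)
  let a := aMap ((Spec R).basicOpen (1 : Γ(Spec R, ⊤))).ι
  show (ξ : Ext (ZZ (Spec R)) F (n + 1)) = 0
  rw [← Ext.mk₀_id_comp ξ, ← IsIso.inv_hom_id a, ← Ext.mk₀_comp_mk₀_assoc,
    ext_zero F hS hker n 1 ((Ext.mk₀ a).comp ξ (zero_add _)), Ext.comp_zero]

theorem strictlyHenselian_stalk (R : CommRingCat.{u})
    (hR : ∀ p : PrimeSpectrum R, EtCoh.IsStrictlyHenselianLocalRing (Localization.AtPrime p.asIdeal)) (x : Spec R) :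
    EtCoh.IsStrictlyHenselianLocalRing ((Spec R).presheaf.stalk x) :=
  HenselLib.WLoc.strictlyHenselian_of_equiv (StructureSheaf.stalkIso R (x : PrimeSpectrum R)).toRingEquiv (hR x)

end Groth.Agent.EtGabber
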