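import Groth.Agent.EtGabber.TorsorSection
import Groth.Agent.EtGabber.Main
import Groth.Agent.S0625
import Groth.Agent.S0090
import Groth.Agent.ProEtWC.LiftHom

/-!
# Cohomology of closed subschemes of normal affine schemes with separably closed function field
-/

set_option autoImplicit false
set_option linter.all false
set_option backward.isDefEq.respectTransparency.types false
set_option backward.isDefEq.respectTransparency false
set_option synthInstance.maxHeartbeats 400000
set_option maxHeartbeats 1000000

universe u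

open CategoryTheory CategoryTheory.Limits AlgebraicGeometry Opposite TopologicalSpace
open Groth.Agent.Et18

namespace Groth.Agent.EtGabber

theorem isSepClosed_of_equiv {K L : Type u} [Field K] [Field L] (e : K ≃+* L) [IsSepClosed K] :
    IsSepClosed L := by
  letI : Algebra K L := e.toRingHom.toAlgebra
  haveI : Algebra.IsAlgebraic K L := ⟨fun x => e.apply_symm_apply x ▸ isAlgebraic_algebraMap (e.symm x)⟩
  exact Algebra.IsAlgebraic.isSepClosed (F := K)

theorem isSepClosed_functionField_open {X : Scheme.{u}} [IsIntegral X] [IsSepClosed X.functionField]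
    (U : X.Opens) [Nonempty U] : IsSepClosed (U : Scheme.{u}).functionField := by
  haveI : IsIntegral (U : Scheme.{u}) := inferInstance
  exact isSepClosed_of_equiv ((U.stalkIso (genericPoint (U : Scheme.{u}))) ≪≫
    X.presheaf.stalkCongr (.of_eq (genericPoint_eq_of_isOpenImmersion U.ι))).commRingCatIsoToRingEquiv.symm

/-- Finite étale covers of a closed subscheme of an open affine have sections. -/
theorem exists_section_open {X Z : Scheme.{u}} [IsAffine X] [IsIntegral X]
    (hN : ∀ x : X, IsIntegrallyClosed (X.presheaf.stalk x)) [IsSepClosed X.functionField]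
    (i : Z ⟶ X) [IsClosedImmersion i] (U : X.Opens) (hU : IsAffineOpen U) (W : Z.Opens)
    (hW : W = i ⁻¹ᵁ U) {V : Scheme.{u}} (φ : V ⟶ W) [Etale φ] [IsFinite φ] [Surjective φ] :
    ∃ s, s ≫ φ = 𝟙 (W : Scheme.{u}) := by
  subst hW
  by_cases hne : Nonempty U
  · haveI := hne
    haveI : IsAffine (U : Scheme.{u}) := hU
    haveI : IsIntegral (U : Scheme.{u}) := inferInstance
    haveI := isSepClosed_functionField_open U
    haveI : IsClosedImmersion (i ∣_ U) := MorphismProperty.of_isPullback (isPullback_morphismRestrict i U).flip inferInstance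
    exact Groth.Agent.S0625.result (X := (U : Scheme.{u})) (fun x => haveI := hN x.1; IsIntegrallyClosed.of_equiv
      (U.stalkIso x).commRingCatIsoToRingEquiv.symm) (i ∣_ U) φ
  · haveI : IsEmpty ↥((i ⁻¹ᵁ U : Z.Opens) : Scheme.{u}) := ⟨fun z => hne ⟨⟨i z.1, z.2⟩⟩⟩
    haveI : IsEmpty V := Function.isEmpty φ.base
    exact ⟨(isInitialOfIsEmpty (X := ((i ⁻¹ᵁ U : Z.Opens) : Scheme.{u}))).to V,
      (isInitialOfIsEmpty (X := ((i ⁻¹ᵁ U : Z.Opens) : Scheme.{u}))).hom_ext _ _⟩

theorem subsingleton_H_one_closed {X Z : Scheme.{u}} [IsAffine X] [IsIntegral X]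
    (hN : ∀ x : X, IsIntegrallyClosed (X.presheaf.stalk x)) [IsSepClosed X.functionField]
    (i : Z ⟶ X) [IsClosedImmersion i] (M : AddCommGrpCat.{u + 1}) [Finite M] :
    Subsingleton (EtCoh.H Z ((cst Z).obj M) 1) :=
  subsingleton_H_one (fun φ => Groth.Agent.S0625.result hN i φ) M

theorem strictlyHenselian_stalk_closed {X Z : Scheme.{u}} [IsIntegral X]
    (hN : ∀ x : X, IsIntegrallyClosed (X.presheaf.stalk x)) [IsSepClosed X.functionField]
    (i : Z ⟶ X) [IsClosedImmersion i] (z : Z) : EtCoh.IsStrictlyHenselianLocalRing (Z.presheaf.stalk z) :=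
  ProEtWC.strictlyHenselian_of_surjective (i.stalkMap z).hom (i.stalkMap_surjective z)
    (Groth.Agent.S0090.result X hN (i z))

theorem hKer_closed {X : Scheme.{u}} {R : CommRingCat.{u}} [IsAffine X] [IsIntegral X]
    (hN : ∀ x : X, IsIntegrallyClosed (X.presheaf.stalk x)) [IsSepClosed X.functionField]
    (i : Spec R ⟶ X) [IsClosedImmersion i] (M : AddCommGrpCat.{u + 1}) [Finite M] :
    HKer ((cst (Spec R)).obj M) := by
  intro f g _ _ ξ _ _
  obtain ⟨h, hh⟩ := (IsClosedImmersion.isAffine_surjective_of_isAffine i).2 (f + g)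
  let W := (Spec R).basicOpen (f + g)
  have hW : W = i ⁻¹ᵁ X.basicOpen h := by
    rw [Scheme.preimage_basicOpen]
    exact congrArg (Spec R).basicOpen hh.symm
  have hs : Subsingleton (EtCoh.H (W : Scheme.{u}) ((cst (W : Scheme.{u})).obj M) 1) :=
    subsingleton_H_one (fun φ => exists_section_open hN i _ ((isAffineOpen_top X).basicOpen h) W hW φ) M
  exact (((EtCoh.HF (W : Scheme.{u}) 1).mapIso ((EtCore.pullConstIso W.ι).app M)).addCommGroupIsoToAddEquiv).injective
    (hs.elim _ _)

/-- Gabber: cohomology of finite constant sheaves vanishes on closed subschemes. -/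
theorem subsingleton_H_closed {X : Scheme.{u}} {R : CommRingCat.{u}} [IsAffine X] [IsIntegral X]
    (hN : ∀ x : X, IsIntegrallyClosed (X.presheaf.stalk x)) [IsSepClosed X.functionField]
    (i : Spec R ⟶ X) [IsClosedImmersion i] (M : AddCommGrpCat.{u + 1}) [Finite M] (n : ℕ) :
    Subsingleton (EtCoh.H (Spec R) ((cst (Spec R)).obj M) (n + 1)) :=
  subsingleton_H _ (strictlyHenselian_stalk_closed hN i) (hKer_closed hN i M) n

end Groth.Agent.EtGabber
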