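import Groth.Agent.EtGabber.Normal
import Groth.Agent.Et18.AcyclicComp

/-!
# Gabber's theorem with finite constant coefficients
-/

set_option autoImplicit false
set_option linter.all false
set_option backward.isDefEq.respectTransparency.types false
set_option backward.isDefEq.respectTransparency false
set_option synthInstance.maxHeartbeats 400000
set_option maxHeartbeats 1000000

universe u

open CategoryTheory CategoryTheory.Limits AlgebraicGeometry Opposite
open Groth.Agent.Et18

namespace Groth.Agent.EtGabber

theorem subsingleton_H_closed_const {X Z : Scheme.{u}} [IsAffine X] [IsIntegral X]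
    (hN : ∀ x : X, IsIntegrallyClosed (X.presheaf.stalk x)) [IsSepClosed X.functionField]
    (i : Z ⟶ X) [IsClosedImmersion i] (M : Type) [AddCommGroup M] [Finite M] (q : ℕ) (hq : 1 ≤ q) :
    Subsingleton (EtCoh.H Z (EtCoh.const Z M) q) := by
  obtain ⟨n, rfl⟩ : ∃ n, q = n + 1 := ⟨q - 1, by omega⟩
  haveI : IsAffine Z := (IsClosedImmersion.isAffine_surjective_of_isAffine i).1
  let A : AddCommGrpCat.{u + 1} := AddCommGrpCat.of (ULift.{u + 1} M)
  haveI : Finite A := inferInstanceAs (Finite (ULift.{u + 1} M))
  let e := Z.isoSpec.hom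
  have h0 := subsingleton_H_closed hN (Z.isoSpec.inv ≫ i) A n
  have hb := AcyclicComp.Hpull_bijective_of_isIso e ((cst (Spec Γ(Z, ⊤))).obj A) (n + 1)
  let E := ((EtCoh.HF Z (n + 1)).mapIso ((EtCore.pullConstIso e).app A)).addCommGroupIsoToAddEquiv
  exact subsingleton_of_forall_eq 0 fun x => by
    obtain ⟨y, hy⟩ := hb.2 (E.symm x)
    rw [show y = 0 from h0.elim _ _, map_zero] at hy
    exact E.symm.injective (hy.symm.trans (map_zero _).symm)

end Groth.Agent.EtGabber
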