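import Groth.Agent.EtFLC.Represent
import Groth.Agent.Et18.FLC
import Groth.Agent.Et18.ExtRealize
import Groth.Agent.EtUnitLib.ConstVal
import Groth.Agent.EtMV.Open
import Groth.Agent.EtCechLib.Etale

/-!
# `H¹` with finite constant coefficients vanishes when finite étale covers have sections
-/

set_option autoImplicit false
set_option linter.all false
set_option backward.isDefEq.respectTransparency.types false
set_option backward.isDefEq.respectTransparency false
set_option backward.defeqAttrib.useBackward true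
set_option synthInstance.maxHeartbeats 400000
set_option maxHeartbeats 1000000

universe u

open CategoryTheory CategoryTheory.Limits AlgebraicGeometry Opposite CategoryTheory.Abelian
open Groth.Agent.Et18 Groth.Agent.EtUnitLib

namespace Groth.Agent.EtGabber

variable {X : Scheme.{u}}

/-- Over a scheme all of whose surjective finite étale covers have a section, the map on global
sections of an epimorphism between finite locally constant sheaves onto a constant one hits every
constant section. -/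
theorem exists_section_lift
    (hX : ∀ {V : Scheme.{u}} (φ : V ⟶ X) [Etale φ] [IsFinite φ] [Surjective φ], ∃ s, s ≫ φ = 𝟙 X)
    {E : EtCoh.Ab X} (hE : EtCoh.IsFiniteLocallyConstant E) {C : AddCommGrpCat.{u + 1}}
    (v : E ⟶ (cst X).obj C) [Epi v] (t : EtCoh.sect ((cst X).obj C) (EtCoh.top X)) :
    ∃ e : EtCoh.sect E (EtCoh.top X), v.hom.app (op (EtCoh.top X)) e = t := by
  obtain ⟨U, hfin, ⟨i⟩⟩ := Groth.Agent.EtFLC.exists_representing E hE
  haveI := hfin
  let r : ∀ T : X.Etale, EtCoh.sect E T ≃ ULift.{u + 1} (T ⟶ U) := fun T => (i.app (op T)).toEquiv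
  let σ : EtCoh.sect E U := (r U).symm (ULift.up (𝟙 U))
  have hσ : ∀ (T : X.Etale) (e : EtCoh.sect E T), ∃ g : T ⟶ U, E.obj.map g.op σ = e := by
    intro T e
    refine ⟨(r T e).down, (r T).injective ?_⟩
    have h1 : r T (E.obj.map (r T e).down.op σ) = ULift.up ((r T e).down ≫ (r U σ).down) :=
      ConcreteCategory.congr_hom (i.hom.naturality (r T e).down.op) σ
    rw [h1, show r U σ = ULift.up (𝟙 U) from Equiv.apply_symm_apply _ _, Category.comp_id]
  let f : U.left → C := val (v.hom.app (op U) σ)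
  let c : X → C := val t
  have hf : IsLocallyConstant f := isLocallyConstant_val _
  have hc : IsLocallyConstant c := isLocallyConstant_val t
  haveI : Etale U.hom := U.prop
  let pair : U.left → C × C := fun y => (f y, c (U.hom y))
  have hpair : IsLocallyConstant pair := hf.prodMk (hc.comp_continuous U.hom.continuous)
  let O : U.left.Opens := ⟨pair ⁻¹' {p | p.1 = p.2}, hpair _⟩
  have hOc : IsClosed (O : Set U.left) := ⟨by
    show IsOpen (pair ⁻¹' {p | p.1 = p.2})ᶜ
    rw [← Set.preimage_compl]; exact hpair _⟩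
  haveI : IsClosedImmersion O.ι := .of_isPreimmersion _ (by rw [Scheme.Opens.range_ι]; exact hOc)
  haveI : Surjective (O.ι ≫ U.hom) := by
    refine ⟨fun x => ?_⟩
    haveI : Sheaf.IsLocallySurjective v :=
      (Sheaf.isLocallySurjective_iff_epi' (A := AddCommGrpCat.{u + 1}) v).2 inferInstance
    obtain ⟨W, k, ⟨e, he⟩, w, hw⟩ := EtCechLib.exists_mem_of_mem
      (Presheaf.imageSieve_mem X.smallEtaleTopology v.hom t) (x : (EtCoh.top X).left)
    obtain ⟨g, rfl⟩ := hσ W e
    have hk : k.left ≫ 𝟙 X = W.hom := CategoryTheory.Over.w k.hom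
    have hg : g.left ≫ U.hom = W.hom := CategoryTheory.Over.w g.hom
    have hx : U.hom (g.left w) = x :=
      (congrArg (fun m => m w) (hg.trans hk.symm)).trans hw
    have hmem : g.left w ∈ O := by
      show f (g.left w) = c (U.hom (g.left w))
      rw [hx]
      have h1 : v.hom.app (op W) (E.obj.map g.op σ) =
          ((cst X).obj C).obj.map k.op t := he
      rw [NatTrans.naturality_apply] at h1
      have h2 := congrArg (fun s => val s w) h1
      rw [val_map, val_map] at h2
      exact h2.trans (congrArg c hw)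
    exact ⟨⟨g.left w, hmem⟩, hx⟩
  obtain ⟨s, hs⟩ := hX (O.ι ≫ U.hom)
  let g₀ : EtCoh.top X ⟶ U := MorphismProperty.Over.homMk (s ≫ O.ι) ((Category.assoc _ _ _).trans hs) trivial
  refine ⟨E.obj.map g₀.op σ, ext_val fun x => ?_⟩
  rw [NatTrans.naturality_apply, val_map]
  have hmem : f (O.ι (s x)) = c (U.hom (O.ι (s x))) := (s x).2
  have hx : U.hom (O.ι (s x)) = x := congrArg (fun m => m x) hs
  exact hmem.trans (congrArg c hx)

theorem nsmul_id_comp_eq_zero {C : Type*} [Category C] [Abelian C] [HasExt.{u + 1} C] {A B : C} (n : ℕ)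
    (hB : n • 𝟙 B = 0) (x : Ext A B 1) : (Ext.mk₀ (n • 𝟙 A)).comp x (zero_add 1) = 0 := by
  have e1 : ∀ {P Q : C} (φ : P ⟶ Q), Ext.mk₀ (n • φ) = n • Ext.mk₀ φ :=
    fun φ => map_nsmul Ext.addEquiv₀.symm n φ
  have h1 : (Ext.bilinearComp A A B 0 1 1 (zero_add 1)) (n • Ext.mk₀ (𝟙 A)) x =
      n • (Ext.mk₀ (𝟙 A)).comp x (zero_add 1) := by
    rw [map_nsmul]; rfl
  have h2 : (Ext.bilinearComp A B B 1 0 1 (add_zero 1)) x (n • Ext.mk₀ (𝟙 B)) =
      n • x.comp (Ext.mk₀ (𝟙 B)) (add_zero 1) := by
    rw [map_nsmul]; rfl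
  rw [Ext.mk₀_id_comp] at h1
  rw [Ext.comp_mk₀_id] at h2
  rw [e1]
  refine h1.trans ?_
  rw [← h2, ← e1, hB, Ext.mk₀_zero, map_zero]

/-- `H¹` of a finite constant sheaf vanishes when all surjective finite étale covers have sections. -/
theorem subsingleton_H_one
    (hX : ∀ {V : Scheme.{u}} (φ : V ⟶ X) [Etale φ] [IsFinite φ] [Surjective φ], ∃ s, s ≫ φ = 𝟙 X)
    (M : AddCommGrpCat.{u + 1}) [Finite M] : Subsingleton (EtCoh.H X ((cst X).obj M) 1) := by
  refine subsingleton_of_forall_eq 0 fun ξ => ?_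
  let n : ℕ := Nat.card M
  haveI : NeZero n := ⟨Nat.card_pos.ne'⟩
  let Z1 : AddCommGrpCat.{u + 1} := AddCommGrpCat.of (ULift.{u + 1} ℤ)
  let Cn : AddCommGrpCat.{u + 1} := AddCommGrpCat.of (ULift.{u + 1} (ZMod n))
  let red : Z1 ⟶ Cn := AddCommGrpCat.ofHom
    (AddEquiv.ulift.symm.toAddMonoidHom.comp ((Int.castAddHom (ZMod n)).comp AddEquiv.ulift.toAddMonoidHom))
  have hred : ∀ x : Z1, red x = ULift.up ((x.down : ℤ) : ZMod n) := fun _ => rfl
  let mul : Z1 ⟶ Z1 := AddCommGrpCat.ofHom (nsmulAddMonoidHom n)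
  have hmul : mul = n • 𝟙 Z1 := by
    ext x
    simp [mul]
  have hn : ∀ x : Z1, mul x = ULift.up ((n : ℤ) * x.down) := fun x =>
    ULift.ext _ _ (by show n • (x.down : ℤ) = _; exact nsmul_eq_mul n x.down)
  let S₀ : ShortComplex AddCommGrpCat.{u + 1} := ShortComplex.mk mul red (by
    refine ConcreteCategory.hom_ext _ _ fun x => ?_
    show red (mul x) = 0
    rw [hn, hred]
    refine ULift.ext _ _ ?_
    show ((((n : ℤ) * x.down : ℤ)) : ZMod n) = 0
    rw [Int.cast_mul, Int.cast_natCast, ZMod.natCast_self, zero_mul])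
  have hS₀ : S₀.ShortExact :=
    { exact := by
        rw [ShortComplex.ab_exact_iff]
        intro x hx
        have h0 : ((x.down : ℤ) : ZMod n) = 0 := congrArg ULift.down hx
        obtain ⟨m, hm⟩ := (ZMod.intCast_zmod_eq_zero_iff_dvd _ _).1 h0
        exact ⟨ULift.up m, (hn _).trans (ULift.ext _ _ hm.symm)⟩
      mono_f := (AddCommGrpCat.mono_iff_injective _).2 fun x y h => by
        have h' : (n : ℤ) * x.down = (n : ℤ) * y.down :=
          congrArg ULift.down ((hn x).symm.trans (h.trans (hn y)))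
        exact ULift.ext _ _ (mul_left_cancel₀ (by exact_mod_cast NeZero.ne n) h')
      epi_g := (AddCommGrpCat.epi_iff_surjective _).2 fun y => by
        obtain ⟨m, hm⟩ := ZMod.intCast_surjective y.down
        exact ⟨ULift.up m, ULift.ext _ _ hm⟩ }
  have hS := hS₀.map_of_exact (cst X)
  let S := S₀.map (cst X)
  have hM : n • 𝟙 ((cst X).obj M) = 0 := by
    rw [← CategoryTheory.Functor.map_id, ← Functor.map_nsmul,
      show n • 𝟙 M = 0 from AddCommGrpCat.hom_ext (AddMonoidHom.ext fun a => card_nsmul_eq_zero'), Functor.map_zero]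
  have h0 : (Ext.mk₀ S.f).comp (ξ : Ext S.X₂ ((cst X).obj M) 1) (zero_add 1) = 0 := by
    have e : S.f = n • 𝟙 S.X₂ := by
      show (cst X).map mul = _
      rw [hmul, Functor.map_nsmul, CategoryTheory.Functor.map_id]
      rfl
    rw [e]
    exact nsmul_id_comp_eq_zero n hM (ξ : Ext S.X₂ ((cst X).obj M) 1)
  obtain ⟨η, hη⟩ := Ext.contravariant_sequence_exact₂ hS _ (ξ : Ext S.X₂ ((cst X).obj M) 1) h0
  obtain ⟨E, a, v, w, h, rfl⟩ := Groth.Agent.Et18.ExtRealize.exists_extClass_eq η
  haveI := h.epi_g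
  haveI : Finite Cn := inferInstanceAs (Finite (ULift.{u + 1} (ZMod n)))
  have hE : EtCoh.IsFiniteLocallyConstant E := isFLC_extension h (isFLC_cst M) (isFLC_cst Cn)
  let one : Z1 := ULift.up 1
  obtain ⟨e, he⟩ := exists_section_lift hX hE v ((EtCore.constAdj X).unit.app Cn (red one))
  let tt : Z1 ⟶ (EtCore.gsec X).obj E :=
    AddCommGrpCat.ofHom ((zmultiplesHom _ e).comp AddEquiv.ulift.toAddMonoidHom)
  have key : ((EtCore.constAdj X).homEquiv Z1 E).symm tt ≫ v = (cst X).map red := by
    apply ((EtCore.constAdj X).homEquiv _ _).injective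
    rw [Adjunction.homEquiv_naturality_right, Equiv.apply_symm_apply, Adjunction.homEquiv_unit]
    refine Eq.trans ?_ ((EtCore.constAdj X).unit.naturality red)
    refine ConcreteCategory.hom_ext _ _ fun x => ?_
    obtain ⟨m⟩ := x
    have hm : (ULift.up m : Z1) = m • one := ULift.ext _ _ (by
      show m = m • (1 : ℤ)
      simp)
    show (tt ≫ (EtCore.gsec X).map v) (ULift.up m) = (red ≫ (EtCore.constAdj X).unit.app Cn) (ULift.up m)
    rw [hm, map_zsmul, map_zsmul]
    refine congrArg (m • ·) ?_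
    show v.hom.app _ (tt one) = _
    exact (congrArg (v.hom.app (op (EtCoh.top X))) (one_zsmul e)).trans he
  rw [← hη]
  show (Ext.mk₀ ((cst X).map red)).comp h.extClass (zero_add 1) = 0
  rw [← key, ← Ext.mk₀_comp_mk₀_assoc, h.comp_extClass, Ext.comp_zero]

end Groth.Agent.EtGabber
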