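import Groth.Agent.EtGabber.TorsorSection
import Groth.Agent.EtGabber.Local

/-!
# Degree one classes with finite constant coefficients die on a finite étale cover
-/

set_option autoImplicit false
set_option linter.all false
set_option backward.isDefEq.respectTransparency.types false
set_option backward.isDefEq.respectTransparency false
set_option backward.defeqAttrib.useBackward true
set_option synthInstance.maxHeartbeats 400000
set_option maxHeartbeats 1000000

universe u

open CategoryTheory CategoryTheory.Limits AlgebraicGeometry Opposite CategoryTheory.Abelian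
open Groth.Agent.Et18 Groth.Agent.EtUnitLib Groth.Agent.EtMV Groth.Agent.EtLimit

namespace Groth.Agent.EtGabber

variable {X : Scheme.{u}}

/-- A constant section lifts on a finite étale cover. -/
theorem exists_cover_lift {E : EtCoh.Ab X} (hE : EtCoh.IsFiniteLocallyConstant E) {C : AddCommGrpCat.{u + 1}}
    (v : E ⟶ (cst X).obj C) [Epi v] (t : EtCoh.sect ((cst X).obj C) (EtCoh.top X)) :
    ∃ (T : X.Etale) (_ : IsFinite T.hom) (_ : Surjective T.hom) (k : T ⟶ EtCoh.top X) (e : EtCoh.sect E T),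
      v.hom.app (op T) e = ((cst X).obj C).obj.map k.op t := by
  obtain ⟨U, hfin, ⟨i⟩⟩ := Groth.Agent.EtFLC.exists_representing E hE
  haveI := hfin
  let r : ∀ T : X.Etale, EtCoh.sect E T ≃ ULift.{u + 1} (T ⟶ U) := fun T => (i.app (op T)).toEquiv
  let σ : EtCoh.sect E U := (r U).symm (ULift.up (𝟙 U))
  have hσ : ∀ (T : X.Etale) (e : EtCoh.sect E T), ∃ g : T ⟶ U, E.obj.map g.op σ = e := by
    intro T e
    refine ⟨(r T e).down, (r T).injective ?_⟩
    have h1 : r T (E.obj.map (r T e).down.op σ) = ULift.up ((r T e).down ≫ (r U σ).down) :=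
      ConcreteCategory.congr_hom (i.hom.naturality (r T e).down.op) σ
    rw [h1, show r U σ = ULift.up (𝟙 U) from Equiv.apply_symm_apply _ _, Category.comp_id]
  let f : U.left → C := val (v.hom.app (op U) σ)
  let c : X → C := val t
  have hf : IsLocallyConstant f := isLocallyConstant_val _
  have hc : IsLocallyConstant c := isLocallyConstant_val t
  haveI : Etale U.hom := U.prop
  let pair : U.left → C × C := fun y => (f y, c (U.hom y))
  have hpair : IsLocallyConstant pair := hf.prodMk (hc.comp_continuous U.hom.continuous)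
  let O : U.left.Opens := ⟨pair ⁻¹' {p | p.1 = p.2}, hpair _⟩
  have hOc : IsClosed (O : Set U.left) := ⟨by
    show IsOpen (pair ⁻¹' {p | p.1 = p.2})ᶜ
    rw [← Set.preimage_compl]; exact hpair _⟩
  haveI : IsClosedImmersion O.ι := .of_isPreimmersion _ (by rw [Scheme.Opens.range_ι]; exact hOc)
  have hsurj : Surjective (O.ι ≫ U.hom) := by
    refine ⟨fun x => ?_⟩
    haveI : Sheaf.IsLocallySurjective v :=
      (Sheaf.isLocallySurjective_iff_epi' (A := AddCommGrpCat.{u + 1}) v).2 inferInstance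
    obtain ⟨W, k, ⟨e, he⟩, w, hw⟩ := EtCechLib.exists_mem_of_mem
      (Presheaf.imageSieve_mem X.smallEtaleTopology v.hom t) (x : (EtCoh.top X).left)
    obtain ⟨g, rfl⟩ := hσ W e
    have hk : k.left ≫ 𝟙 X = W.hom := CategoryTheory.Over.w k.hom
    have hg : g.left ≫ U.hom = W.hom := CategoryTheory.Over.w g.hom
    have hx : U.hom (g.left w) = x :=
      (congrArg (fun m => m w) (hg.trans hk.symm)).trans hw
    have hmem : g.left w ∈ O := by
      show f (g.left w) = c (U.hom (g.left w))
      rw [hx]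
      have h1 : v.hom.app (op W) (E.obj.map g.op σ) =
          ((cst X).obj C).obj.map k.op t := he
      rw [NatTrans.naturality_apply] at h1
      have h2 := congrArg (fun s => val s w) h1
      rw [val_map, val_map] at h2
      exact h2.trans (congrArg c hw)
    exact ⟨⟨g.left w, hmem⟩, hx⟩
  haveI : Etale (O.ι ≫ U.hom) := MorphismProperty.comp_mem @Etale O.ι U.hom inferInstance inferInstance
  let T : X.Etale := Scheme.Etale.mk (O.ι ≫ U.hom)
  let g : T ⟶ U := MorphismProperty.Over.homMk O.ι rfl trivial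
  let k : T ⟶ EtCoh.top X := MorphismProperty.Over.homMk (O.ι ≫ U.hom) (Category.comp_id _) trivial
  refine ⟨T, inferInstanceAs (IsFinite (O.ι ≫ U.hom)), hsurj, k, E.obj.map g.op σ, ext_val fun y => ?_⟩
  rw [NatTrans.naturality_apply, val_map, val_map]
  exact (y : (O : Scheme.{u})).2

/-- The diagonal section. -/
noncomputable def diagSect (T : X.Etale) : EtCoh.top T.left ⟶ (EtCoh.bc T.hom).obj T :=
  MorphismProperty.Over.homMk (pullback.lift (𝟙 _) (𝟙 _) rfl) (pullback.lift_snd _ _ _) trivial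

/-- A local lift of a morphism out of `ℤ` along a map gives a lift after pulling back. -/
theorem exists_pull_lift {I G : EtCoh.Ab X} (g : I ⟶ G) (s : ZZ X ⟶ G) (T : X.Etale) (k : T ⟶ EtCoh.top X)
    (y : EtCoh.sect I T)
    (hy : g.hom.app (op T) y =
      G.obj.map k.op (sec (AddCommGrpCat.of (ULift.{u + 1} ℤ)) s (ULift.up 1))) :
    ∃ l : ZZ T.left ⟶ (EtCoh.pull T.hom).obj I,
      l ≫ (EtCoh.pull T.hom).map g = (EtCore.pullConst T.hom ℤ).inv ≫ (EtCoh.pull T.hom).map s := by
  let M := AddCommGrpCat.of (ULift.{u + 1} ℤ)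
  let one : M := ULift.up 1
  let s₀ := sec M s one
  let N := (EtCoh.pull T.hom).obj I
  let t := N.obj.map (diagSect T).op (eta T.hom I T y)
  let tt : M ⟶ N.obj.obj (op (EtCoh.top T.left)) :=
    AddCommGrpCat.ofHom ((zmultiplesHom _ t).comp AddEquiv.ulift.toAddMonoidHom)
  let l : ZZ T.left ⟶ N := ((EtCore.constAdj _).homEquiv M N).symm tt
  have hl : sec M l = tt := Equiv.apply_symm_apply _ _
  refine ⟨l, ((EtCore.constAdj _).homEquiv M _).injective ?_⟩
  have h1 : sec M (l ≫ (EtCoh.pull T.hom).map g) = tt ≫ ((EtCoh.pull T.hom).map g).hom.app _ :=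
    ((EtCore.constAdj _).homEquiv_naturality_right _ _).trans (by rw [← hl]; rfl)
  have h2 : sec M ((EtCore.pullConst T.hom ℤ).inv ≫ (EtCoh.pull T.hom).map s) one =
      ((EtCoh.pull T.hom).obj G).obj.map (EtCore.bcTopIso T.hom).inv.op (eta T.hom G (EtCoh.top X) s₀) := by
    have := sec_pull T.hom M s (𝟙 ((EtCoh.pull T.hom).obj G)) one
    rwa [Category.comp_id] at this
  have h3 : sec M (l ≫ (EtCoh.pull T.hom).map g) one =
      sec M ((EtCore.pullConst T.hom ℤ).inv ≫ (EtCoh.pull T.hom).map s) one := by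
    rw [h2, h1]
    show ((EtCoh.pull T.hom).map g).hom.app _ (tt one) = _
    have : tt one = t := one_zsmul t
    rw [this, show t = N.obj.map (diagSect T).op (eta T.hom I T y) from rfl, NatTrans.naturality_apply,
      pull_map_eta, hy]
    have hn := NatTrans.naturality_apply
      ((EtCoh.pullPushAdj T.hom).homEquiv _ _ (𝟙 ((EtCoh.pull T.hom).obj G))).hom k.op s₀
    refine (congrArg (((EtCoh.pull T.hom).obj G).obj.map (diagSect T).op) hn).trans ?_
    refine ((ConcreteCategory.congr_hom (((EtCoh.pull T.hom).obj G).obj.map_comp ((EtCoh.bc T.hom).map k).op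
      (diagSect T).op) _).symm).trans ?_
    refine congrArg (fun m => ((EtCoh.pull T.hom).obj G).obj.map (Quiver.Hom.op m) (eta T.hom G (EtCoh.top X) s₀)) ?_
    exact (EtCore.bcTopIsTerminal T.hom).hom_ext _ _
  refine AddCommGrpCat.hom_ext ?_
  refine AddMonoidHom.ext fun n => ?_
  obtain ⟨n⟩ := n
  have hn : (ULift.up n : ULift.{u + 1} ℤ) = n • one := by
    apply ULift.ext
    show n = n • (1 : ℤ)
    simp
  show sec M (l ≫ (EtCoh.pull T.hom).map g) (ULift.up n) =
    sec M ((EtCore.pullConst T.hom ℤ).inv ≫ (EtCoh.pull T.hom).map s) (ULift.up n)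
  rw [hn, map_zsmul, map_zsmul, h3]

/-- A degree one class is pulled back from a finite locally constant extension. -/
theorem exists_flc_extension (M : AddCommGrpCat.{u + 1}) [Finite M] (ξ : Ext (ZZ X) ((cst X).obj M) 1) :
    ∃ (E : EtCoh.Ab X) (C : AddCommGrpCat.{u + 1}) (a : (cst X).obj M ⟶ E) (v : E ⟶ (cst X).obj C)
      (w : a ≫ v = 0) (h : (ShortComplex.mk a v w).ShortExact) (_ : EtCoh.IsFiniteLocallyConstant E)
      (s : ZZ X ⟶ (cst X).obj C), ξ = (Ext.mk₀ s).comp h.extClass (zero_add 1) := by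
  let n : ℕ := Nat.card M
  haveI : NeZero n := ⟨Nat.card_pos.ne'⟩
  let Z1 : AddCommGrpCat.{u + 1} := AddCommGrpCat.of (ULift.{u + 1} ℤ)
  let Cn : AddCommGrpCat.{u + 1} := AddCommGrpCat.of (ULift.{u + 1} (ZMod n))
  let red : Z1 ⟶ Cn := AddCommGrpCat.ofHom
    (AddEquiv.ulift.symm.toAddMonoidHom.comp ((Int.castAddHom (ZMod n)).comp AddEquiv.ulift.toAddMonoidHom))
  have hred : ∀ x : Z1, red x = ULift.up ((x.down : ℤ) : ZMod n) := fun _ => rfl
  let mul : Z1 ⟶ Z1 := AddCommGrpCat.ofHom (nsmulAddMonoidHom n)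
  have hmul : mul = n • 𝟙 Z1 := by
    ext x
    simp [mul]
  have hn : ∀ x : Z1, mul x = ULift.up ((n : ℤ) * x.down) := fun x =>
    ULift.ext _ _ (by show n • (x.down : ℤ) = _; exact nsmul_eq_mul n x.down)
  let S₀ : ShortComplex AddCommGrpCat.{u + 1} := ShortComplex.mk mul red (by
    refine ConcreteCategory.hom_ext _ _ fun x => ?_
    show red (mul x) = 0
    rw [hn, hred]
    refine ULift.ext _ _ ?_
    show ((((n : ℤ) * x.down : ℤ)) : ZMod n) = 0
    rw [Int.cast_mul, Int.cast_natCast, ZMod.natCast_self, zero_mul])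
  have hS₀ : S₀.ShortExact :=
    { exact := by
        rw [ShortComplex.ab_exact_iff]
        intro x hx
        have h0 : ((x.down : ℤ) : ZMod n) = 0 := congrArg ULift.down hx
        obtain ⟨m, hm⟩ := (ZMod.intCast_zmod_eq_zero_iff_dvd _ _).1 h0
        exact ⟨ULift.up m, (hn _).trans (ULift.ext _ _ hm.symm)⟩
      mono_f := (AddCommGrpCat.mono_iff_injective _).2 fun x y h => by
        have h' : (n : ℤ) * x.down = (n : ℤ) * y.down :=
          congrArg ULift.down ((hn x).symm.trans (h.trans (hn y)))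
        exact ULift.ext _ _ (mul_left_cancel₀ (by exact_mod_cast NeZero.ne n) h')
      epi_g := (AddCommGrpCat.epi_iff_surjective _).2 fun y => by
        obtain ⟨m, hm⟩ := ZMod.intCast_surjective y.down
        exact ⟨ULift.up m, ULift.ext _ _ hm⟩ }
  have hS := hS₀.map_of_exact (cst X)
  let S := S₀.map (cst X)
  have hM : n • 𝟙 ((cst X).obj M) = 0 := by
    rw [← CategoryTheory.Functor.map_id, ← Functor.map_nsmul,
      show n • 𝟙 M = 0 from AddCommGrpCat.hom_ext (AddMonoidHom.ext fun a => card_nsmul_eq_zero'), Functor.map_zero]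
  have h0 : (Ext.mk₀ S.f).comp (ξ : Ext S.X₂ ((cst X).obj M) 1) (zero_add 1) = 0 := by
    have e : S.f = n • 𝟙 S.X₂ := by
      show (cst X).map mul = _
      rw [hmul, Functor.map_nsmul, CategoryTheory.Functor.map_id]
      rfl
    rw [e]
    exact nsmul_id_comp_eq_zero n hM (ξ : Ext S.X₂ ((cst X).obj M) 1)
  obtain ⟨η, hη⟩ := Ext.contravariant_sequence_exact₂ hS _ (ξ : Ext S.X₂ ((cst X).obj M) 1) h0
  obtain ⟨E, a, v, w, h, rfl⟩ := Groth.Agent.Et18.ExtRealize.exists_extClass_eq η
  haveI : Finite Cn := inferInstanceAs (Finite (ULift.{u + 1} (ZMod n)))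
  exact ⟨E, Cn, a, v, w, h, isFLC_extension h (isFLC_cst M) (isFLC_cst Cn), (cst X).map red, hη.symm⟩

/-- A class in degree one with finite constant coefficients is killed by a finite étale cover. -/
theorem exists_trivializing (M : AddCommGrpCat.{u + 1}) [Finite M] (ξ : Ext (ZZ X) ((cst X).obj M) 1) :
    ∃ (T : X.Etale) (_ : IsFinite T.hom) (_ : Surjective T.hom), ξ.mapExactFunctor (EtCoh.pull T.hom) = 0 := by
  obtain ⟨E, C, a, v, w, h, hE, e, hξ⟩ := exists_flc_extension M ξ
  haveI := h.epi_g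
  obtain ⟨T, hf, hsj, k, y, hy⟩ := exists_cover_lift hE v
    (sec (AddCommGrpCat.of (ULift.{u + 1} ℤ)) e (ULift.up 1))
  obtain ⟨l, hl⟩ := exists_pull_lift v e T k y hy
  refine ⟨T, hf, hsj, ?_⟩
  have h0 : (Ext.mk₀ ((EtCore.pullConst T.hom ℤ).inv)).comp (ξ.mapExactFunctor (EtCoh.pull T.hom)) (zero_add 1) = 0 := by
    rw [hξ, Ext.mapExactFunctor_comp, Ext.mapExactFunctor_mk₀, Ext.mapExactFunctor_extClass,
      Ext.mk₀_comp_mk₀_assoc, ← hl, ← Ext.mk₀_comp_mk₀_assoc]
    exact (congrArg (fun z => (Ext.mk₀ l).comp z (zero_add 1))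
      (h.map_of_exact (EtCoh.pull T.hom)).comp_extClass).trans (Ext.comp_zero (Ext.mk₀ l) _ _ _ (zero_add 1))
  have := congrArg (fun z => (Ext.mk₀ ((EtCore.pullConst T.hom ℤ).hom)).comp z (zero_add 1)) h0
  simpa [Ext.mk₀_comp_mk₀_assoc] using this

end Groth.Agent.EtGabber
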